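import Groth.Agent.AlgSpLib.FieldOpen
import Groth.Agent.AlgSpLib.LocP
/-!
# Projections from products of algebraic spaces over a field
-/

set_option autoImplicit false
universe u
open CategoryTheory CategoryTheory.Limits AlgebraicGeometry AlgSp

namespace FieldFlatLib

variable {S : Scheme.{u}}

theorem isUnivOpenMor_of_isPullback {F G F' G' : Sp S} {fst : F' ⟶ F} {snd : F' ⟶ G'} {f : F ⟶ G}
    {g : G' ⟶ G} (sq : IsPullback fst snd f g) (hf : IsUnivOpenMor f) : IsUnivOpenMor snd :=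
  fun _ _ hZ c a b sq' => hf hZ (c ≫ g) (a ≫ fst) b (sq'.paste_horiz sq)

theorem locP_flat_to_field {X : Sp S} (hX : IsAlgSpace X) {k : Type u} [Field k]
    {σ : Spec (CommRingCat.of k) ⟶ S} (p : X ⟶ (yon S).obj (Over.mk σ)) : LocP @Flat p := by
  obtain ⟨U, a, ha, has⟩ := hX.atlas
  obtain ⟨φ, hφ⟩ := (yon S).map_surjective (a ≫ p)
  haveI : Subsingleton ↥(Over.mk σ).left := inferInstanceAs (Subsingleton (PrimeSpectrum k))
  haveI : IsIntegral (Over.mk σ).left := inferInstanceAs (IsIntegral (Spec (CommRingCat.of k)))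
  exact AlgSpLib.locP_of_chart (h₀ := φ) ha has (repWith_id _ (Over.mk σ))
    (by rw [hφ, Category.comp_id]) (inferInstance : Flat φ.left)

theorem isUnivOpenMor_of_iso_comp {F F' G : Sp S} (e : F' ≅ F) {f : F ⟶ G} (hf : IsUnivOpenMor f) :
    IsUnivOpenMor (e.hom ≫ f) :=
  isUnivOpenMor_of_isPullback (fst := e.hom) (snd := e.hom ≫ f) (f := f) (g := 𝟙 G)
    (IsPullback.of_horiz_isIso ⟨by rw [Category.comp_id]⟩) hf

theorem locP_flat_of_iso_comp {F F' G : Sp S} (hF : IsAlgSpace F) (hG : IsAlgSpace G) (e : F' ≅ F)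
    {f : F ⟶ G} (hf : LocP @Flat f) : LocP @Flat (e.hom ≫ f) :=
  AlgSpLib.locP_of_isPullback hF hG hG (fst := e.hom) (snd := e.hom ≫ f) (f := f) (g := 𝟙 G)
    (IsPullback.of_horiz_isIso ⟨by rw [Category.comp_id]⟩) hf

/-- A morphism isomorphic to a projection from a product over a field is flat and universally open. -/
theorem flat_univOpen_of_iso_proj {X Y P T : Sp S} (hX : IsAlgSpace X) (hY : IsAlgSpace Y)
    (hP : IsAlgSpace P) {k : Type u} [Field k] {σ : Spec (CommRingCat.of k) ⟶ S}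
    (eT : T ≅ (yon S).obj (Over.mk σ)) {p : X ⟶ T} {q : Y ⟶ T} {a : P ⟶ X} {b : P ⟶ Y}
    (sq : IsPullback a b p q) {P' : Sp S} (e : P' ≅ P) :
    LocP @Flat (e.hom ≫ a) ∧ IsUnivOpenMor (e.hom ≫ a) := by
  have sq' : IsPullback b a (q ≫ eT.hom) (p ≫ eT.hom) :=
    sq.flip.of_iso (Iso.refl _) (Iso.refl _) (Iso.refl _) eT (by simp) (by simp) (by simp) (by simp)
  have hT := IsAlgSpace.yon_obj (S := S) (Over.mk σ)
  exact ⟨locP_flat_of_iso_comp hP hX e
      (AlgSpLib.locP_of_isPullback hY hT hX sq' (locP_flat_to_field hY (q ≫ eT.hom))),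
    isUnivOpenMor_of_iso_comp e (isUnivOpenMor_of_isPullback sq' (AlgSpLib.isUnivOpenMor_to_field hY σ _))⟩

end FieldFlatLib
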